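import Cfsg.Agent.Omega.OM.Swap.Count

/-!
# THEOREM SW, STEP 1 (b), second case: the count with the weaker input `|W p : C(A)| ≥ 4`

The proof is helper590's (`Swap.Count`).
-/

set_option autoImplicit false
set_option linter.unusedVariables false

namespace Cfsg.Agent.Omega.OM.Swap

open Subgroup Cfsg.Agent.ZN Cfsg.Agent.ZN.ChoiceBase Cfsg.Agent.ZN.ChoiceSit Cfsg.Agent.Omega.OM.Swap.Count
open Cfsg.Agent.Omega.SQ1.Bau (mem_sup_comm)

universe u

theorem count_points' {G : Type u} [Group G] [Finite G] {A Λ A₀ : Subgroup G} {P : Type*} [Finite P] [Nonempty P]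
    [MulAction A P] (hΛ : ∀ x ∈ Λ, ∀ y ∈ Λ, x * y = y * x) (W : P → Subgroup G) (hW : ∀ p, W p ≤ Λ)
    (hWa : ∀ (a : A) (p : P), cj (a : G) (W p) = W (a • p))
    (hq : ∀ p, ∀ x ∈ W p, ∀ a ∈ A, ∀ b ∈ A, b * (x * (a * x * a⁻¹)) = x * (a * x * a⁻¹) * b)
    (hind : ∀ p, ¬ W p ≤ ⨆ p', ⨆ _ : p' ≠ p, W p')
    (hmv : ∀ p : P, ∃ a : A, a • p ≠ p)
    (hl : ∀ p, 4 ≤ (centralizer (A : Set G)).relIndex (W p))
    (h0 : ∀ a : A, (∀ p : P, a • p = p) → (a : G) ∈ A₀) :
    2 * A₀.relIndex A ≤ (centralizer (A : Set G)).relIndex (⨆ p, W p) := by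
  classical
  have : Fintype P := Fintype.ofFinite P
  set C := centralizer (A : Set G) with hC
  have hri : ∀ X Y : Subgroup G, X.relIndex Y ≠ 0 := fun X Y => Subgroup.index_ne_zero_of_finite
  -- a bigger group has bigger index
  have hmono : ∀ {X Y : Subgroup G}, X ≤ Y → C.relIndex X ≤ C.relIndex Y := fun h =>
    Subgroup.relIndex_le_of_le_right h (hri _ _)
  have hWWΛ : ∀ K : Subgroup A, WW A W K ≤ Λ := fun K => iSup_le fun p => iSup_le fun _ => hW p
  have key : ∀ s : Finset P, s.Nonempty →
      2 * (⨅ p ∈ s, MulAction.stabilizer A p : Subgroup A).index ≤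
        C.relIndex (WW A W (⨅ p ∈ s, MulAction.stabilizer A p)) := by
    intro s hs
    induction hs using Finset.Nonempty.cons_induction with
    | singleton p =>
      have e : (⨅ p' ∈ ({p} : Finset P), MulAction.stabilizer A p' : Subgroup A) = MulAction.stabilizer A p := by
        simp
      rw [e, index_stab hWa hq hind hmv p]
      calc 2 * 2 = 4 := rfl
        _ ≤ C.relIndex (W p) := hl p
        _ ≤ _ := hmono (le_WW le_rfl)
    | cons p s hp hs ih =>
      set K : Subgroup A := ⨅ p ∈ s, MulAction.stabilizer A p with hK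
      have e : (⨅ p' ∈ Finset.cons p s hp, MulAction.stabilizer A p' : Subgroup A) =
          MulAction.stabilizer A p ⊓ K := by
        rw [Finset.cons_eq_insert, Finset.iInf_insert]
      rw [e]
      by_cases hle : K ≤ MulAction.stabilizer A p
      · rw [inf_eq_right.2 hle]
        exact ih
      · set K' : Subgroup A := MulAction.stabilizer A p ⊓ K with hK'
        have h1 : K'.index ≤ 2 * K.index := by
          have := Subgroup.index_inf_le (H := MulAction.stabilizer A p) (K := K)
          rwa [index_stab hWa hq hind hmv p] at this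
        have h2 : 2 * C.relIndex (WW A W K) ≤ C.relIndex (WW A W K') := by
          set W' := WW A W K' with hW'
          set X : Subgroup G := WW A W K ⊔ (C ⊓ W') with hX
          have hKW : WW A W K ≤ W' := WW_mono inf_le_right
          have hXW : X ≤ W' := sup_le hKW inf_le_right
          obtain ⟨b, hbK, hb⟩ := SetLike.not_le_iff_exists.1 hle
          rw [MulAction.mem_stabilizer_iff] at hb
          obtain ⟨v, hv, hvn⟩ := SetLike.not_le_iff_exists.1 (hind p)
          have hvW : v ∈ W' := le_WW inf_le_left hv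
          have hKle : WW A W K ≤ ⨆ p', ⨆ _ : p' ≠ p, W p' := by
            refine iSup_le fun p' => iSup_le fun hp' => W_le_of_ne ?_
            rintro rfl
            exact hle hp'
          have hbW : ∀ w ∈ WW A W K, (b : G) * w * (b : G)⁻¹ ∈ WW A W K := by
            have h3 : cj (b : G) (WW A W K) ≤ WW A W K := by
              rw [WW, cj, Subgroup.map_iSup]
              refine iSup_le fun p' => ?_
              rw [Subgroup.map_iSup]
              refine iSup_le fun hp' => ?_
              change cj (b : G) (W p') ≤ _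
              rw [hWa, MulAction.mem_stabilizer_iff.1 (hp' hbK)]
              exact le_WW hp'
            exact fun w hw => h3 ⟨w, hw, rfl⟩
          have hvX : v ∉ X := by
            intro hvX
            obtain ⟨w, hw, c, hc, e1⟩ := mem_sup_comm (A := WW A W K) (B := C ⊓ W')
              (fun a ha b hb => hΛ a (hWWΛ _ ha) b (hWWΛ _ hb.2)) hvX
            apply hvn
            have h3 := mem_centralizer_iff.1 hc.1 (b : G) b.2
            have e2 : v = w * ((b : G) * w * (b : G)⁻¹)⁻¹ * ((b : G) * v * (b : G)⁻¹) := by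
              have e3 : (b : G) * v * (b : G)⁻¹ = ((b : G) * w * (b : G)⁻¹) * c := by
                calc (b : G) * v * (b : G)⁻¹ = ((b : G) * w * (b : G)⁻¹) * ((b : G) * c * (b : G)⁻¹) := by
                      rw [e1]; group
                  _ = ((b : G) * w * (b : G)⁻¹) * c := by rw [h3]; group
              rw [e3, e1]; group
            rw [e2]
            refine mul_mem (mul_mem (hKle hw) (inv_mem (hKle (hbW w hw)))) ?_
            exact W_le_of_ne hb (mem_W hWa b hv)
          have h4 : 2 ≤ X.relIndex W' := by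
            have h5 : X.relIndex W' ≠ 1 := by
              intro h5
              exact hvX (Subgroup.relIndex_eq_one.1 h5 hvW)
            have h6 := hri X W'
            omega
          have h5 : C.relIndex W' = (C ⊓ W').relIndex X * X.relIndex W' := by
            rw [Subgroup.relIndex_mul_relIndex _ _ _ le_sup_right hXW, Subgroup.inf_relIndex_right]
          have h6 : C.relIndex (WW A W K) ≤ (C ⊓ W').relIndex X := by
            have h7 : (C ⊓ W').relIndex (WW A W K) = C.relIndex (WW A W K) := by
              rw [← Subgroup.inf_relIndex_right (C ⊓ W'), inf_assoc, inf_eq_right.2 hKW,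
                Subgroup.inf_relIndex_right]
            rw [← h7]
            exact Subgroup.relIndex_le_of_le_right le_sup_left (hri _ _)
          rw [h5, mul_comm]
          exact Nat.mul_le_mul h6 h4
        calc 2 * K'.index ≤ 2 * (2 * K.index) := Nat.mul_le_mul_left _ h1
          _ ≤ 2 * C.relIndex (WW A W K) := Nat.mul_le_mul_left _ ih
          _ ≤ _ := h2
  have h1 := key Finset.univ Finset.univ_nonempty
  have h2 : WW A W (⨅ p ∈ (Finset.univ : Finset P), MulAction.stabilizer A p) ≤ ⨆ p, W p :=
    iSup_le fun p => iSup_le fun _ => le_iSup W p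
  have h3 : A₀.relIndex A ≤ (⨅ p ∈ (Finset.univ : Finset P), MulAction.stabilizer A p : Subgroup A).index := by
    refine Nat.le_of_dvd (Nat.pos_of_ne_zero Subgroup.index_ne_zero_of_finite) (Subgroup.index_dvd_of_le ?_)
    intro a ha
    rw [mem_subgroupOf]
    refine h0 a fun p => ?_
    have h4 := Subgroup.mem_iInf.1 (Subgroup.mem_iInf.1 ha p) (Finset.mem_univ p)
    exact MulAction.mem_stabilizer_iff.1 h4
  calc 2 * A₀.relIndex A ≤ _ := Nat.mul_le_mul_left _ h3
    _ ≤ _ := h1
    _ ≤ _ := hmono h2

end Cfsg.Agent.Omega.OM.Swap
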